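import Mathlib
import Cfsg.Agent.Lib.Helper61.Torus.NT
import Cfsg.Agent.Lib.Helper25.Torus.U3NT

/-!
# A primitive prime power divisor of `p ^ (6 n) - 1` dividing `q ^ 2 - q + 1`, `q = p ^ n ≥ 3`

General-`p` version of helper25's `pkgU3NT` (which is the case `p = 2`), for the `PSU₃(q)` torus
argument with `q` odd (S2786).
-/

set_option autoImplicit false

namespace Cfsg.Agent.Lib.Helper68.U3Odd

open Cfsg.Agent.Lib.Helper25.Torus

/-- the value at `p` of the `6 n`-th cyclotomic polynomial is not 3 when `p ^ n ≥ 3`. -/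
theorem phi_ne_three_gen (p n : ℕ) (hn : 1 ≤ n) (hq3 : 3 ≤ p ^ n) :
    (Polynomial.eval ((p : ℕ) : ℤ) (Polynomial.cyclotomic (6 * n) ℤ)).natAbs ≠ 3 := by
  intro h
  have hsqall : ∀ x : ZMod 3, x ≠ 0 → x ^ 2 = 1 := by decide
  have h01 : (0 : ZMod 3) ≠ 1 := by decide
  have hroot : (Polynomial.cyclotomic (6 * n) (ZMod 3)).IsRoot ((p : ℕ) : ZMod 3) := by
    rw [Polynomial.IsRoot.def, ← Polynomial.map_cyclotomic_int (6 * n) (ZMod 3)]
    have h1 : Polynomial.eval ((p : ℕ) : ZMod 3)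
        (Polynomial.map (Int.castRingHom (ZMod 3)) (Polynomial.cyclotomic (6 * n) ℤ)) =
        Int.castRingHom (ZMod 3)
          (Polynomial.eval ((p : ℕ) : ℤ) (Polynomial.cyclotomic (6 * n) ℤ)) := by
      rw [← Polynomial.eval_map_apply]
      simp
    rw [h1]
    have h2 : (3 : ℤ) ∣ Polynomial.eval ((p : ℕ) : ℤ) (Polynomial.cyclotomic (6 * n) ℤ) := by
      rw [← Int.natAbs_dvd_natAbs, h]
      decide
    have h3 := (ZMod.intCast_zmod_eq_zero_iff_dvd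
      (Polynomial.eval ((p : ℕ) : ℤ) (Polynomial.cyclotomic (6 * n) ℤ)) 3).mpr h2
    simpa using h3
  obtain ⟨j, m, hm3, hjm⟩ :=
    Nat.exists_eq_pow_mul_and_not_dvd (n := 6 * n) (by omega) 3 (by norm_num)
  haveI : Fact (Nat.Prime 3) := ⟨Nat.prime_three⟩
  haveI : NeZero ((m : ℕ) : ZMod 3) := ⟨by
    intro h0
    exact hm3 ((ZMod.natCast_eq_zero_iff m 3).mp h0)⟩
  rw [hjm, Polynomial.isRoot_cyclotomic_prime_pow_mul_iff_of_charP] at hroot
  have hm0 : m ≠ 0 := by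
    rintro rfl
    simp at hjm
    omega
  have hm2 : m = 2 := by
    have hp0 : ((p : ℕ) : ZMod 3) ≠ 0 := by
      intro h0
      have h5 := hroot.pow_eq_one
      rw [h0, zero_pow hm0] at h5
      exact h01 h5
    have hsq : ((p : ℕ) : ZMod 3) ^ 2 = 1 := hsqall _ hp0
    have h1 : m ∣ 2 := hroot.dvd_of_pow_eq_one 2 hsq
    have h2 : m ≠ 1 := by
      rintro rfl
      have h3 : (3 ^ j) % 2 = 1 := Nat.odd_iff.mp (Odd.pow (by decide))
      omega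
    have h3 := Nat.le_of_dvd (by norm_num) h1
    omega
  subst hm2
  obtain ⟨i, rfl⟩ : ∃ i, j = i + 1 := by
    rcases j with _ | i
    · simp at hjm
      omega
    · exact ⟨i, rfl⟩
  have hn3 : n = 3 ^ i := by
    rw [pow_succ] at hjm
    omega
  subst hn3
  rw [cyc_six_three_pow, Polynomial.expand_eval, Polynomial.cyclotomic_six] at h
  simp only [Polynomial.eval_add, Polynomial.eval_sub, Polynomial.eval_pow, Polynomial.eval_X,
    Polynomial.eval_one] at h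
  have h4 : (3 : ℤ) ≤ (p : ℤ) ^ 3 ^ i := by exact_mod_cast hq3
  generalize (p : ℤ) ^ 3 ^ i = x at h h4
  have h5 : (7 : ℤ) ≤ x ^ 2 - x + 1 := by nlinarith
  have h6 : ((x ^ 2 - x + 1).natAbs : ℤ) = x ^ 2 - x + 1 := Int.natAbs_of_nonneg (by linarith)
  rw [h] at h6
  push_cast at h6
  linarith

/-- **[NT3]** a prime power `r ^ e` (`r ∉ {2, 3, p}`) dividing `q ^ 2 - q + 1` (`q = p ^ n ≥ 3`)
such that `r ^ e ∣ p ^ k - 1` forces `6 n ∣ k`. -/
theorem nt3 (p n : ℕ) (hp : p.Prime) (hn : 1 ≤ n) (hq3 : 3 ≤ p ^ n) :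
    ∃ r e : ℕ, r.Prime ∧ r ≠ 2 ∧ r ≠ 3 ∧ r ≠ p ∧ 1 ≤ e ∧
      r ^ e ∣ (p ^ n) ^ 2 - p ^ n + 1 ∧
      ∀ k : ℕ, 1 ≤ k → r ^ e ∣ p ^ k - 1 → 6 * n ∣ k := by
  obtain ⟨q, hq⟩ : ∃ q : ℕ, q = p ^ n := ⟨_, rfl⟩
  rw [← hq]
  rw [← hq] at hq3
  have hp1 : 1 ≤ p := hp.one_lt.le
  have hpq : p ∣ q := by
    rw [hq]
    exact dvd_pow_self p (by omega)
  have hqq : q ≤ q ^ 2 := by nlinarith
  have hMq : q ^ 2 - q + 1 + q = q ^ 2 + 1 := by omega
  generalize hM : q ^ 2 - q + 1 = M at hMq ⊢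
  obtain ⟨a, ha⟩ : ∃ a, q = a + 2 := ⟨q - 2, by omega⟩
  have hMa : M = a ^ 2 + 3 * a + 3 := by
    have h1 : (a + 2) ^ 2 = a ^ 2 + 4 * a + 4 := by ring
    rw [ha, h1] at hMq
    omega
  have hMpos : 0 < M := by omega
  have hModd : M % 2 = 1 := by
    rcases Nat.even_or_odd' a with ⟨c, rfl | rfl⟩
    · have h1 : (2 * c) ^ 2 + 3 * (2 * c) + 3 = 2 * (2 * c ^ 2 + 3 * c + 1) + 1 := by ring
      omega
    · have h1 : (2 * c + 1) ^ 2 + 3 * (2 * c + 1) + 3 = 2 * (2 * c ^ 2 + 5 * c + 3) + 1 := by ring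
      omega
  set Φ := (Polynomial.eval ((p : ℕ) : ℤ) (Polynomial.cyclotomic (6 * n) ℤ)).natAbs with hΦ
  have hΦgt : p - 1 < Φ :=
    Polynomial.sub_one_lt_natAbs_cyclotomic_eval (by omega) hp.one_lt.ne'
  have hΦ3 : Φ ≠ 3 := phi_ne_three_gen p n hn (hq ▸ hq3)
  have h6 : p ^ (6 * n) = q ^ 6 := by rw [hq, ← pow_mul, mul_comm]
  have h3 : p ^ (3 * n) = q ^ 3 := by rw [hq, ← pow_mul, mul_comm]
  have h2 : p ^ (2 * n) = q ^ 2 := by rw [hq, ← pow_mul, mul_comm]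
  have hq3' : 1 ≤ q ^ 3 := Nat.one_le_pow _ _ (by omega)
  have hq2 : 1 ≤ q ^ 2 := Nat.one_le_pow _ _ (by omega)
  have hq3'' : 2 ≤ q ^ 3 := by
    calc 2 ≤ q := by omega
      _ = q ^ 1 := (pow_one q).symm
      _ ≤ q ^ 3 := Nat.pow_le_pow_right (by omega) (by norm_num)
  have hq2' : 2 ≤ q ^ 2 := by omega
  -- factorisations
  have hfac3 : q ^ 6 - 1 = (q ^ 3 - 1) * (q ^ 3 + 1) := by
    have h := sq_sub_one_fac (q ^ 3) hq3'
    rw [← pow_mul] at h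
    exact h
  have hfac2 : q ^ 6 - 1 = (q ^ 2 - 1) * (q ^ 4 + q ^ 2 + 1) := by
    have h := cube_sub_one_fac (q ^ 2) hq2
    rw [← pow_mul, ← pow_mul] at h
    exact h
  have hcube : q ^ 3 + 1 = (q + 1) * M := by
    rw [ha, hMa]; ring
  have hquart : q ^ 4 + q ^ 2 + 1 = (q ^ 2 + q + 1) * M := by
    rw [ha, hMa]; ring
  have hMdvd6 : M ∣ q ^ 6 - 1 := by
    rw [hfac3, hcube]
    exact Dvd.dvd.mul_left (Dvd.intro_left _ rfl) _
  -- (A) Φ ∣ M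
  have hΦ1 : Φ ∣ (q + 1) * M := by
    have hprop : 3 * n ∈ (6 * n).properDivisors := by
      rw [Nat.mem_properDivisors]
      exact ⟨⟨2, by ring⟩, by omega⟩
    have h := Cfsg.Agent.Lib.Helper61.Torus.cyc_dvd p (6 * n) (3 * n) hp1 hprop
    rw [h6, h3, hfac3, hcube] at h
    exact Nat.dvd_of_mul_dvd_mul_left (by omega) h
  have hΦ2 : Φ ∣ (q ^ 2 + q + 1) * M := by
    have hprop : 2 * n ∈ (6 * n).properDivisors := by
      rw [Nat.mem_properDivisors]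
      exact ⟨⟨3, by ring⟩, by omega⟩
    have h := Cfsg.Agent.Lib.Helper61.Torus.cyc_dvd p (6 * n) (2 * n) hp1 hprop
    rw [h6, h2, hfac2, hquart] at h
    exact Nat.dvd_of_mul_dvd_mul_left (by omega) h
  have hcop : Nat.Coprime (q + 1) (q ^ 2 + q + 1) := by
    have h : q ^ 2 + q + 1 = 1 + q * (q + 1) := by ring
    rw [h]
    simp
  have hΦM : Φ ∣ M := by
    have h := Nat.dvd_gcd hΦ1 hΦ2
    rw [Nat.gcd_mul_right, hcop.gcd_eq_one, one_mul] at h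
    exact h
  -- (B) 9 does not divide M
  have h9 : ¬ 9 ∣ M := by
    intro h
    have h1 : (M + q) % 9 = (q ^ 2 + 1) % 9 := by rw [hMq]
    have h2' : q ^ 2 % 9 = (q % 9) ^ 2 % 9 := Nat.pow_mod q 2 9
    have h3' : q % 9 < 9 := Nat.mod_lt _ (by norm_num)
    have h4 : M % 9 = 0 := Nat.mod_eq_zero_of_dvd h
    obtain ⟨c, hc⟩ : ∃ c, q % 9 = c := ⟨_, rfl⟩
    rw [hc] at h2' h3'
    interval_cases c <;> omega
  -- a prime divisor of Φ different from 3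
  obtain ⟨r, hr, hr3, hrΦ⟩ : ∃ r : ℕ, r.Prime ∧ r ≠ 3 ∧ r ∣ Φ := by
    by_cases h3Φ : 3 ∣ Φ
    · obtain ⟨t, ht⟩ := h3Φ
      have ht1 : t ≠ 1 := by
        rintro rfl
        exact hΦ3 (by omega)
      have ht3 : ¬ 3 ∣ t := by
        rintro ⟨s, hs⟩
        exact h9 (Dvd.dvd.trans ⟨s, by rw [ht, hs]; ring⟩ hΦM)
      refine ⟨t.minFac, Nat.minFac_prime ht1, ?_, (Nat.minFac_dvd t).trans ⟨3, by rw [ht]; ring⟩⟩
      intro h
      exact ht3 (h ▸ Nat.minFac_dvd t)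
    · have hΦne1 : Φ ≠ 1 := by
        have := hp.two_le
        omega
      refine ⟨Φ.minFac, Nat.minFac_prime hΦne1, ?_, Nat.minFac_dvd Φ⟩
      intro h
      exact h3Φ (h ▸ Nat.minFac_dvd Φ)
  have hrM : r ∣ M := hrΦ.trans hΦM
  have hr2 : r ≠ 2 := by
    rintro rfl
    omega
  have hrp : r ≠ p := by
    rintro rfl
    have h1 : r ∣ M + q := Dvd.dvd.add hrM hpq
    rw [hMq] at h1
    have h2' : r ∣ q ^ 2 := Dvd.dvd.pow hpq (by norm_num)
    have h3' : r ∣ 1 := (Nat.dvd_add_right h2').mp h1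
    exact hr.one_lt.ne' (Nat.dvd_one.mp h3')
  have hfr : Fact r.Prime := ⟨hr⟩
  refine ⟨r, padicValNat r M, hr, hr2, hr3, hrp, one_le_padicValNat_of_dvd (by omega) hrM,
    pow_padicValNat_dvd, ?_⟩
  intro k hk hdvd
  set e := padicValNat r M with he
  have hre : r ^ e ∣ M := pow_padicValNat_dvd
  by_contra hnot
  have hg_dvd : Nat.gcd k (6 * n) ∣ 6 * n := Nat.gcd_dvd_right _ _
  have hgne : Nat.gcd k (6 * n) ≠ 6 * n := by
    intro h
    apply hnot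
    rw [← h]
    exact Nat.gcd_dvd_left _ _
  have hgprop : Nat.gcd k (6 * n) ∈ (6 * n).properDivisors := by
    rw [Nat.mem_properDivisors]
    exact ⟨hg_dvd, lt_of_le_of_ne (Nat.le_of_dvd (by omega) hg_dvd) hgne⟩
  have h1 : r ^ e ∣ p ^ (6 * n) - 1 := by
    rw [h6]
    exact hre.trans hMdvd6
  have h2g : r ^ e ∣ p ^ Nat.gcd k (6 * n) - 1 := by
    have h := Nat.dvd_gcd hdvd h1
    rwa [Nat.pow_sub_one_gcd_pow_sub_one] at h
  have h3g := Cfsg.Agent.Lib.Helper61.Torus.cyc_dvd p (6 * n) (Nat.gcd k (6 * n)) hp1 hgprop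
  have h4 : r ^ e * r ∣ (p ^ Nat.gcd k (6 * n) - 1) * Φ := Nat.mul_dvd_mul h2g hrΦ
  have h5 : r ^ (e + 1) ∣ (q ^ 3 - 1) * ((q + 1) * M) := by
    rw [pow_succ, ← hcube, ← hfac3, ← h6]
    exact h4.trans h3g
  have hcop1 : Nat.Coprime (r ^ (e + 1)) (q ^ 3 - 1) := by
    apply Nat.Coprime.pow_left
    rw [Nat.Prime.coprime_iff_not_dvd hr]
    intro hd
    have h7 : r ∣ q ^ 3 + 1 := by
      rw [hcube]
      exact Dvd.dvd.mul_left hrM _
    have h8 : r ∣ q ^ 3 + 1 - (q ^ 3 - 1) := Nat.dvd_sub h7 hd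
    have h9' : q ^ 3 + 1 - (q ^ 3 - 1) = 2 := by omega
    rw [h9'] at h8
    exact hr2 ((Nat.prime_dvd_prime_iff_eq hr Nat.prime_two).mp h8)
  have hcop2 : Nat.Coprime (r ^ (e + 1)) (q + 1) := by
    apply Nat.Coprime.pow_left
    rw [Nat.Prime.coprime_iff_not_dvd hr]
    intro hd
    have h7 : M = (a + 3) * a + 3 := by rw [hMa]; ring
    have h8 : r ∣ (a + 3) * a := by
      have : a + 3 = q + 1 := by omega
      rw [this]
      exact Dvd.dvd.mul_right hd _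
    rw [h7] at hrM
    have h10 : r ∣ 3 := (Nat.dvd_add_right h8).mp hrM
    exact hr3 ((Nat.prime_dvd_prime_iff_eq hr Nat.prime_three).mp h10)
  have h6' : r ^ (e + 1) ∣ (q + 1) * M := hcop1.dvd_of_dvd_mul_left h5
  have h7' : r ^ (e + 1) ∣ M := hcop2.dvd_of_dvd_mul_left h6'
  exact pow_succ_padicValNat_not_dvd (by omega) h7'

end Cfsg.Agent.Lib.Helper68.U3Odd
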